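import Cfsg.Agent.H134.TD.Sit
import Cfsg.Agent.H377.SpElt
import Cfsg.Agent.LieClassical.SympCenter

/-!
# S3478, identification row `PSp_2m(u)` (helper269, for helper134)

`row_psp` : `PSp_2m(u)` does not have the element orders of `³D₄(q)`.
-/

set_option autoImplicit false
set_option linter.unusedSectionVars false

namespace Cfsg.Agent.H269.TDRow.Psp

open Cfsg Cfsg.Agent.H134.TD Cfsg.Agent.H135.TD Cfsg.Agent.H150 Cfsg.Agent.H377

variable {F : Type*} [Field F] [Fintype F]

theorem sq_of_center {m : ℕ} (hm : 1 ≤ m) {z : Matrix.symplecticGroup (Fin m) F}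
    (hz : z ∈ Subgroup.center (Matrix.symplecticGroup (Fin m) F)) : z ^ 2 = 1 := by
  have h1 := Cfsg.Agent.LieClassical.SympCenter.card_center (F := F) hm
  have h2 : Nat.card (Subgroup.center (Matrix.symplecticGroup (Fin m) F)) ∣ 2 := by
    rw [h1]
    exact Nat.gcd_dvd_left _ _
  have h3 : (⟨z, hz⟩ : Subgroup.center (Matrix.symplecticGroup (Fin m) F)) ^ 2 = 1 := by
    obtain ⟨k, hk⟩ := h2
    rw [hk, pow_mul, pow_card_eq_one', one_pow]
  exact congrArg Subtype.val h3

/-- an element of `Sp` of the same order -/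
theorem exists_sp {m N : ℕ} (hm : 1 ≤ m) (hN : 0 < N) (hg : ∃ g : PSp m F, orderOf g = N) :
    ∃ S : Matrix.symplecticGroup (Fin m) F, orderOf S = N := by
  obtain ⟨g, hg⟩ := hg
  obtain ⟨S, rfl⟩ := QuotientGroup.mk'_surjective _ g
  have h1 : N ∣ orderOf S := by
    rw [← hg]
    exact orderOf_map_dvd _ S
  have h2 : S ^ N ∈ Subgroup.center (Matrix.symplecticGroup (Fin m) F) := by
    apply (QuotientGroup.eq_one_iff _).1
    change QuotientGroup.mk' _ (S ^ N) = 1
    rw [map_pow, ← hg, pow_orderOf_eq_one]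
  have h3 : S ^ (N * 2) = 1 := by
    rw [pow_mul]
    exact sq_of_center hm h2
  have h4 : orderOf S ∣ N * 2 := orderOf_dvd_of_pow_eq_one h3
  obtain ⟨k, hk⟩ := h1
  have hk2 : k ∣ 2 := by
    rw [hk] at h4
    exact Nat.dvd_of_mul_dvd_mul_left hN h4
  have hk0 : k ≠ 0 := by
    rintro rfl
    simp at hk2
  refine ⟨S ^ k, ?_⟩
  rw [orderOf_pow_of_dvd hk0 (by rw [hk]; exact dvd_mul_left _ _), hk,
    Nat.mul_div_cancel _ (Nat.pos_of_ne_zero hk0)]

/-- `Sp_2m` is a subgroup of `PSp_2(m+1)` -/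
theorem exists_up {m N : ℕ} (hm : 1 ≤ m) (S : Matrix.symplecticGroup (Fin m) F)
    (hS : orderOf S = N) : ∃ g : PSp (m + 1) F, orderOf g = N := by
  refine exists_psp_of_prod hm S 1 fun j => ?_
  have h1 : (spLin (1 : Matrix.symplecticGroup (Fin 1) F)) ^ j = 1 := by
    rw [spLin_pow_eq_one_iff, one_pow]
  rw [h1, spLin_pow_eq_one_iff, ← orderOf_dvd_iff_pow_eq_one, hS]
  constructor
  · rintro (⟨h2, -⟩ | ⟨h2, h3⟩)
    · exact h2
    · rw [← hS, orderOf_dvd_iff_pow_eq_one, ← spLin_pow_eq_one_iff, h2]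
      have h4 : (1 : F) = -1 := by
        have h5 := congrArg (fun f : Module.End F (Fin 1 ⊕ Fin 1 → F) => f (fun _ => 1) (Sum.inl 0)) h3
        simpa using h5
      apply LinearMap.ext
      intro x
      change -x = x
      funext i
      change - x i = x i
      linear_combination (-x i) * h4
  · intro h2
    exact Or.inl ⟨h2, rfl⟩

/-- elements of order `u ^ m - 1` or its half -/
theorem exists_tor {m N : ℕ} (hm : 1 ≤ m) (hN0 : 0 < N)
    (hN : (Odd N ∧ N ∣ Nat.card F ^ m - 1) ∨ 2 * N ∣ Nat.card F ^ m - 1) :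
    ∃ g : PSp (m + 1) F, orderOf g = N := by
  obtain ⟨S, hS⟩ := exists_sp hm hN0 (exists_psp_tor_plus hm hN0 hN)
  exact exists_up hm S hS

theorem row_psp {p q : ℕ} {m : ℕ} (hm : 2 ≤ m) (_hne : m = 2 → 3 ≤ Fintype.card F)
    (h : Sit p q (Cfsg.PSp m F)) : False := by
  classical
  have hpar := h.par
  have hfin : Finite (Cfsg.PSp m F) := inferInstance
  obtain ⟨s0, hs0, hs0n, hs013, -⟩ := h.exists_prime
  have hodd := mm_odd hpar
  have h73 := mm_ge hpar
  have hu : IsPrimePow (Nat.card F) := by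
    rw [Nat.card_eq_fintype_card]
    exact Fintype.isPrimePow_card_of_field
  have hadj : ∀ s, s.Prime → s ∣ H135.TD.mm q → ¬ H94.PG.Adj (PSp m F) s 2 := by
    intro s hs hd ha
    have h2 := h.adj_dvd hd ha
    have := Nat.odd_iff.1 hodd
    omega
  have hs2 : ∀ s, s.Prime → s ∣ H135.TD.mm q → s ≠ 2 := fun s hs hd => by
    have := h.two_lt hs hd
    omega
  have hsmall : ∀ i, 1 ≤ i → i < m → Nat.Coprime (H135.TD.mm q) (Nat.card F ^ (2 * i) - 1) := by
    intro i hi him
    exact Sit.coprime_of h fun s hs hd hds => hadj s hs hd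
      (psp_adj_two_of_dvd hi him hs (hs2 s hs hd) hds)
  have hchar : Nat.Coprime (H135.TD.mm q) (Nat.card F) :=
    Sit.coprime_of h fun s hs hd hds => hadj s hs hd (psp_adj_two_of_char hm hs (hs2 s hs hd) hds)
  set u := Nat.card F with hudef
  have hu2 : 2 ≤ u := hu.two_le
  have hdvd : H135.TD.mm q ∣ u ^ (2 * m) - 1 := by
    have h1 : H135.TD.mm q ∣ Nat.card (Matrix.symplecticGroup (Fin m) F) :=
      h.mm_dvd_card.trans (Subgroup.card_quotient_dvd_card _)
    rw [Cfsg.Agent.S0245.result (F := F) rfl m, ← Nat.card_eq_fintype_card, ← hudef] at h1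
    have h2 := (Nat.Coprime.pow_right (m ^ 2) hchar).dvd_of_dvd_mul_left h1
    obtain ⟨m', rfl⟩ : ∃ m', m = m' + 1 := ⟨m - 1, by omega⟩
    rw [Finset.prod_range_succ] at h2
    refine Nat.Coprime.dvd_of_dvd_mul_left (Nat.Coprime.prod_right fun i hi => ?_) h2
    rw [Finset.mem_range] at hi
    exact hsmall (i + 1) (by omega) (by omega)
  have hfac : u ^ (2 * m) - 1 = (u ^ m + 1) * (u ^ m - 1) := by
    rw [mul_comm 2, pow_mul, ← Nat.sq_sub_sq, one_pow]
  rw [hfac] at hdvd
  have hum : u ≤ u ^ m := by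
    calc u = u ^ 1 := (pow_one u).symm
      _ ≤ u ^ m := Nat.pow_le_pow_right (by omega) (by omega)
  have hn2 : Nat.Coprime (H135.TD.mm q) 2 := Nat.coprime_two_right.2 hodd
  rcases Nat.even_or_odd m with hme | hmo
  · -- `m` even
    obtain ⟨k, hk⟩ := hme
    have h1 : Nat.Coprime (H135.TD.mm q) (u ^ m - 1) := by
      have := hsmall k (by omega) (by omega)
      rwa [show 2 * k = m by omega] at this
    have h2 : H135.TD.mm q ∣ u ^ m + 1 := h1.dvd_of_dvd_mul_right hdvd
    rcases Nat.even_or_odd u with hue | huo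
    · have hNo : Odd (u ^ m + 1) := (hue.pow_of_ne_zero (by omega)).add_one
      have h3 := h.dvd_mm (exists_psp_tor_minus (F := F) (m := m) (by omega) (N := u ^ m + 1)
        (by omega) (Or.inl ⟨hNo, dvd_rfl⟩)) hs0 (hs0n.trans h2) hs0n
      exact ne_pow_add_one hpar hu (by omega) (Nat.dvd_antisymm h2 h3)
    · obtain ⟨N, hN⟩ : 2 ∣ u ^ m + 1 := (huo.pow.add_one).two_dvd
      have h4 : H135.TD.mm q ∣ N := by
        rw [hN] at h2
        exact hn2.dvd_of_dvd_mul_left h2
      have h3 := h.dvd_mm (exists_psp_tor_minus (F := F) (m := m) (by omega) (N := N)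
        (by omega) (Or.inr (by rw [← hudef, hN]))) hs0 (hs0n.trans h4) hs0n
      have h5 := Nat.dvd_antisymm h4 h3
      apply ne_half hpar (u ^ k)
      rw [h5, ← hN, ← pow_mul, hk, mul_two]
  · -- `m` odd
    have hm3 : 3 ≤ m := by
      obtain ⟨k, hk⟩ := hmo
      omega
    have hco2 : Nat.Coprime (H135.TD.mm q) (u ^ 2 - 1) := by
      have := hsmall 1 le_rfl (by omega)
      rwa [mul_one] at this
    have hsq : u ^ 2 - 1 = (u + 1) * (u - 1) := by
      have := Nat.sq_sub_sq u 1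
      rwa [one_pow] at this
    have hcop : Nat.Coprime (H135.TD.mm q) (u ^ m + 1) := by
      refine Sit.coprime_of h fun s hs hd hds => ?_
      have hdiv : u + 1 ∣ u ^ m + 1 := by
        have := Odd.nat_add_dvd_pow_add_pow u 1 hmo
        rwa [one_pow] at this
      rcases Nat.even_or_odd u with hue | huo
      · have hNo : Odd (u ^ m + 1) := (hue.pow_of_ne_zero (by omega)).add_one
        have h3 := h.dvd_mm (exists_psp_tor_minus (F := F) (m := m) (by omega) (N := u ^ m + 1)
          (by omega) (Or.inl ⟨hNo, dvd_rfl⟩)) hs hds hd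
        have h4 : u + 1 ∣ Nat.gcd (H135.TD.mm q) (u ^ 2 - 1) :=
          Nat.dvd_gcd (hdiv.trans h3) (hsq ▸ Nat.dvd_mul_right _ _)
        rw [Nat.Coprime.gcd_eq_one hco2] at h4
        have := Nat.le_of_dvd one_pos h4
        omega
      · obtain ⟨N, hN⟩ : 2 ∣ u ^ m + 1 := (huo.pow.add_one).two_dvd
        obtain ⟨v, hv⟩ : 2 ∣ u + 1 := huo.add_one.two_dvd
        have hsN : s ∣ N := by
          rw [hN] at hds
          exact ((Nat.coprime_primes hs Nat.prime_two).2 (hs2 s hs hd)).dvd_of_dvd_mul_left hds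
        have h3 := h.dvd_mm (exists_psp_tor_minus (F := F) (m := m) (by omega) (N := N)
          (by omega) (Or.inr (by rw [← hudef, hN]))) hs hsN hd
        have hvN : v ∣ N := by
          rw [hv, hN] at hdiv
          exact Nat.dvd_of_mul_dvd_mul_left two_pos hdiv
        have h4 : v ∣ 1 := by
          rw [← hco2]
          refine Nat.dvd_gcd (hvN.trans h3) ?_
          rw [hsq, hv, mul_assoc]
          exact (Dvd.intro_left 2 rfl).trans (by rw [← mul_assoc]; exact Nat.dvd_mul_right _ _)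
        have := Nat.le_of_dvd one_pos h4
        omega
    have hdvd' : H135.TD.mm q ∣ u ^ m - 1 := hcop.dvd_of_dvd_mul_left hdvd
    have hdiv : u - 1 ∣ u ^ m - 1 := by
      have := Nat.sub_dvd_pow_sub_pow u 1 m
      rwa [one_pow] at this
    have hum1 : 0 < u ^ (m - 1) - 1 := by
      have : u ^ 1 ≤ u ^ (m - 1) := Nat.pow_le_pow_right (by omega) (by omega)
      rw [pow_one] at this
      omega
    rcases Nat.even_or_odd u with hue | huo
    · have hpe : Even (u ^ m) := hue.pow_of_ne_zero (by omega)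
      have hNo : Odd (u ^ m - 1) := Nat.Even.sub_odd (by omega) hpe odd_one
      have h3 := h.dvd_mm (exists_psp_tor_plus (F := F) (m := m) (by omega) (N := u ^ m - 1)
        (by omega) (Or.inl ⟨hNo, dvd_rfl⟩)) hs0 (hs0n.trans hdvd') hs0n
      have h4 : u - 1 ∣ Nat.gcd (H135.TD.mm q) (u ^ 2 - 1) :=
        Nat.dvd_gcd (hdiv.trans h3) (hsq ▸ Nat.dvd_mul_left _ _)
      rw [Nat.Coprime.gcd_eq_one hco2] at h4
      have hu1 : u = 2 := by
        have := Nat.le_of_dvd one_pos h4
        omega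
      have h5 := Nat.dvd_antisymm hdvd' h3
      have hNo' : Odd (u ^ (m - 1) - 1) :=
        Nat.Even.sub_odd (by omega) (hue.pow_of_ne_zero (by omega)) odd_one
      have ha := exists_tor (F := F) (m := m - 1) (N := u ^ (m - 1) - 1) (by omega) hum1
        (Or.inl ⟨hNo', dvd_rfl⟩)
      rw [show m - 1 + 1 = m by omega] at ha
      refine dead_plus hpar (u := u) (k := m) (c := 1) (a := u ^ (m - 1) - 1) hu hm3 (Or.inl rfl)
        ?_ ?_ (h.ord ha)
      · rw [h5, hu1]
        have : 1 ≤ 2 ^ m := Nat.one_le_two_pow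
        omega
      · omega
    · have hpo : Odd (u ^ m) := huo.pow
      obtain ⟨N, hN⟩ : 2 ∣ u ^ m - 1 := (Nat.Odd.sub_odd hpo odd_one).two_dvd
      obtain ⟨v, hv⟩ : 2 ∣ u - 1 := (Nat.Odd.sub_odd huo odd_one).two_dvd
      have h4 : H135.TD.mm q ∣ N := by
        rw [hN] at hdvd'
        exact hn2.dvd_of_dvd_mul_left hdvd'
      have h3 := h.dvd_mm (exists_psp_tor_plus (F := F) (m := m) (by omega) (N := N)
        (by omega) (Or.inr (by rw [← hudef, hN]))) hs0 (hs0n.trans h4) hs0n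
      have h5 := Nat.dvd_antisymm h4 h3
      have hvN : v ∣ N := by
        rw [hv, hN] at hdiv
        exact Nat.dvd_of_mul_dvd_mul_left two_pos hdiv
      have h6 : v ∣ 1 := by
        rw [← hco2]
        refine Nat.dvd_gcd (h5 ▸ hvN) ?_
        rw [hsq, hv]
        exact Dvd.intro_left ((u + 1) * 2) (by ring)
      have hv1 : v = 1 := Nat.dvd_one.1 h6
      have hu3 : u = 3 := by omega
      obtain ⟨N', hN'⟩ : 2 ∣ u ^ (m - 1) - 1 := (Nat.Odd.sub_odd huo.pow odd_one).two_dvd
      have ha := exists_tor (F := F) (m := m - 1) (N := N') (by omega) (by omega)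
        (Or.inr (by rw [← hudef, hN']))
      rw [show m - 1 + 1 = m by omega] at ha
      refine dead_plus hpar (u := u) (k := m) (c := 2) (a := N') hu hm3 (Or.inr ⟨rfl, huo⟩)
        ?_ ?_ (h.ord ha)
      · rw [hu3] at hN
        rw [h5, hu3]
        have : 1 ≤ 3 ^ m := Nat.one_le_pow _ _ (by norm_num)
        omega
      · omega

end Cfsg.Agent.H269.TDRow.Psp
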